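import Cfsg.Agent.Ree.PSL.Main
import Cfsg.Agent.Ree.Section.Main
import Cfsg.Agent.Ree.Torus.Func.Main
import Cfsg.Agent.Ree.Assembly.Main
import Cfsg.Agent.Blocks.Feit3
import Cfsg.Agent.Walter.Main
import Cfsg.Agent.Walter.TypeBinary
import Cfsg.Agent.Walter.TypeJR
import Cfsg.Agent.Components.BGNP.PSL
import Cfsg.Agent.S0252
import Cfsg.Agent.S0253
import Cfsg.Agent.S0276
import Cfsg.Agent.S0448

/-!
Simple groups with abelian Sylow 2-subgroups and an involution centralizer `Z₂ × PSL(2, q)`.
-/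

set_option autoImplicit false
set_option linter.style.haveILetI false
set_option linter.unusedSectionVars false

namespace Cfsg.Lib.Ree

open Subgroup

universe u v

/-- The order in the configuration. -/
theorem Setting.order_eq {G : Type u} [Group G] [Finite G] {t : G} {E : Subgroup G} {F : Type v} [Field F]
    [Fintype F] (H : Setting t E F) :
    ∃ m : ℕ, 1 ≤ m ∧ Fintype.card F = 3 ^ (2 * m + 1) ∧
      Nat.card G = (3 ^ (2 * m + 1)) ^ 3 * ((3 ^ (2 * m + 1)) ^ 3 + 1) * (3 ^ (2 * m + 1) - 1) := by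
  classical
  letI := Fintype.ofFinite G
  letI := Fintype.ofFinite E
  obtain ⟨Tb⟩ := pslSpec F E H.mod H.big H.hyp.iso
  obtain ⟨M, hM⟩ := Cfsg.Lib.Blocks.exists_isPModular Nat.prime_two
  obtain ⟨SF, SB, ⟨R⟩⟩ := sectSpec G t E F H Tb M hM
  obtain ⟨TF⟩ := torusSpec G t E F H Tb SF
  exact assemblySpec G t E F H Tb M hM SF SB R TF

section Product

variable {G : Type u} [Group G] [Finite G] {t : G} {F : Type v} [Field F] [Fintype F]

/-- The factor `PSL(2, q)`. -/
theorem exists_hyp (ht : orderOf t = 2)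
    (e : centralizer ({t} : Set G) ≃* Multiplicative (ZMod 2) × Matrix.ProjectiveSpecialLinearGroup (Fin 2) F)
    (hodd : Odd (Fintype.card F)) : ∃ E : Subgroup G, AbCentMax.Hyp t E E F := by
  set C := centralizer ({t} : Set G) with hC
  set P := Matrix.ProjectiveSpecialLinearGroup (Fin 2) F with hP
  set inr : P →* G := C.subtype.comp (e.symm.toMonoidHom.comp (MonoidHom.inr (Multiplicative (ZMod 2)) P)) with hinr
  have hinj : Function.Injective inr := fun a b h => by
    have := e.symm.injective (Subtype.ext h :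
      e.symm (MonoidHom.inr _ P a) = e.symm (MonoidHom.inr _ P b))
    simpa using congrArg Prod.snd this
  have htC : t ∈ C := mem_centralizer_singleton_iff.2 rfl
  have hcen : ∀ x : Multiplicative (ZMod 2) × P, Commute (e ⟨t, htC⟩) x := fun x => by
    have h : Commute (⟨t, htC⟩ : C) (e.symm x) :=
      Subtype.ext (mem_centralizer_singleton_iff.1 (e.symm x).2).symm
    have := h.map e.toMonoidHom
    simpa using this
  have hcenP : center P = ⊥ := Cfsg.Lib.BGN.P.psl_center_eq_bot
  have h2 : (e ⟨t, htC⟩).2 = 1 := by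
    refine mem_bot.1 (hcenP ▸ mem_center_iff.2 fun g => ?_)
    have := congrArg Prod.snd (hcen (1, g)).eq
    simpa using this.symm
  have h1 : (e ⟨t, htC⟩).1 ≠ 1 := fun h => by
    have he : e ⟨t, htC⟩ = 1 := Prod.ext h h2
    rw [MulEquiv.map_eq_one_iff] at he
    rw [show t = 1 from congrArg Subtype.val he, orderOf_one] at ht
    omega
  refine ⟨inr.range, ht, ?_, ?_, ?_, le_rfl, ?_, ?_, hodd, ⟨(MonoidHom.ofInjective hinj).symm⟩⟩
  · rintro _ ⟨g, rfl⟩
    exact (mem_centralizer_singleton_iff.1 (e.symm (MonoidHom.inr _ P g)).2).symm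
  · intro x hx
    set xc : C := ⟨x, mem_centralizer_singleton_iff.2 hx.eq⟩ with hxc
    refine ⟨inr (e xc).2, ⟨_, rfl⟩, ?_⟩
    have hcases : ∀ a : Multiplicative (ZMod 2), a = 1 ∨ a = (e ⟨t, htC⟩).1 := by
      intro a
      revert h1
      generalize (e ⟨t, htC⟩).1 = b
      revert a b
      decide
    rcases hcases (e xc).1 with h | h
    · left
      refine congrArg (fun c : C => (c : G)) (?_ : xc = e.symm (MonoidHom.inr _ P (e xc).2))
      rw [MulEquiv.eq_symm_apply]
      exact Prod.ext h rfl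
    · right
      refine congrArg (fun c : C => (c : G)) (?_ : xc = ⟨t, htC⟩ * e.symm (MonoidHom.inr _ P (e xc).2))
      apply e.injective
      rw [map_mul, MulEquiv.apply_symm_apply]
      exact Prod.ext (by simp [h]) (by simp [h2])
  · rintro ⟨g, hg⟩
    have he : e.symm (MonoidHom.inr _ P g) = ⟨t, htC⟩ := Subtype.ext hg
    rw [MulEquiv.symm_apply_eq] at he
    exact h1 (by simpa using (congrArg Prod.fst he).symm)
  · rintro _ ⟨a, rfl⟩ _ ⟨b, rfl⟩
    exact ⟨a * b * a⁻¹, by simp⟩
  · rintro _ ⟨a, rfl⟩ h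
    have ha : a = 1 := mem_bot.1 (hcenP ▸ mem_center_iff.2 fun g =>
      (hinj (by rw [map_mul, map_mul]; exact (h _ ⟨g, rfl⟩).eq)).symm)
    rw [ha, map_one]

end Product

section Sylow

variable {G : Type u} [Group G] [Finite G]

/-- The order of a Sylow 2-subgroup of the centralizer is bounded by that of `G`. -/
theorem two_part_le {H : Type v} [Group H] [Finite H] (f : H →* G) (hf : Function.Injective f) {n : ℕ}
    (hn : 2 ^ n ∣ Nat.card H) (S : Sylow 2 G) : 2 ^ n ≤ Nat.card ↥(S : Subgroup G) := by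
  haveI : Fact (Nat.Prime 2) := ⟨Nat.prime_two⟩
  rw [S.card_eq_multiplicity]
  refine Nat.le_of_dvd (by positivity) ?_
  have hd : 2 ^ n ∣ Nat.card G := hn.trans (Subgroup.card_dvd_of_injective f hf)
  exact Nat.pow_dvd_pow 2 ((Nat.Prime.pow_dvd_iff_le_factorization Nat.prime_two Nat.card_pos.ne').1 hd)

/-- In the types of Walter's theorem an involution centralizer of order divisible by 3 and 8 forces Janko–Ree type. -/
theorem typed_jr [IsSimpleGroup G] (hnab : ¬ IsMulCommutative G) (hab : Walter.AbTwo G) {t : G} (ht : orderOf t = 2)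
    (h3 : 3 ∣ Nat.card (centralizer ({t} : Set G))) (h8 : 8 ∣ Nat.card (centralizer ({t} : Set G))) :
    Walter.IsJR G := by
  haveI : Fact (Nat.Prime 2) := ⟨Nat.prime_two⟩
  haveI : Fact (Nat.Prime 3) := ⟨Nat.prime_three⟩
  obtain ⟨S, hS⟩ := (IsPGroup.of_card (G := zpowers t) (p := 2) (n := 1)
    (by rw [Nat.card_zpowers, ht, pow_one])).exists_le_sylow
  rcases Walter.walterProp G hnab hab with h | ⟨K, _, _, h8', -, ⟨f⟩⟩ | h
  · exfalso
    obtain ⟨-, hsq, -, hcent, -⟩ := Walter.binary_facts h S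
    have ht1 : t ≠ 1 := fun e => by rw [e, orderOf_one] at ht; omega
    rw [hcent t (hS (mem_zpowers t)) ht1] at h3
    obtain ⟨x, hx⟩ := exists_prime_orderOf_dvd_card' (G := (S : Subgroup G)) 3 h3
    have h2 : orderOf x ∣ 2 := orderOf_dvd_of_pow_eq_one (Subtype.ext (by
      rw [pow_two]; push_cast; exact hsq x x.2))
    rw [hx] at h2
    norm_num at h2
  · exfalso
    have h4 : Nat.card ↥(S : Subgroup G) = 4 := by
      haveI hk := Cfsg.Agent.S0276.result rfl h8' (S.mapSurjective (f := f.toMonoidHom) f.surjective)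
      have h := hk.card_four
      rw [← h]
      exact (card_map_of_injective (f := f.toMonoidHom) f.injective (K := (S : Subgroup G))).symm
    have := two_part_le (centralizer ({t} : Set G)).subtype (subtype_injective _) (n := 3) h8 S
    omega
  · exact h

end Sylow

end Cfsg.Lib.Ree
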