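import Cfsg.Agent.AbCentMax.Frame

/-!
The configuration: a simple group with abelian Sylow 2-subgroups and an involution `t` whose centralizer is
`⟨t⟩ × E`, `E ≅ PSL(2, q)`, `q ≥ 11`; see `notes/ree_order_v1.md`.
-/

set_option autoImplicit false

namespace Cfsg.Lib.Ree

universe u v

/-- The configuration. -/
structure Setting {G : Type u} [Group G] [Finite G] (t : G) (E : Subgroup G) (F : Type v) [Field F] [Fintype F] :
    Prop where
  simple : IsSimpleGroup G
  nab : ¬ IsMulCommutative G
  ab : ∀ S : Sylow 2 G, IsMulCommutative ↥(S : Subgroup G)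
  hyp : AbCentMax.Hyp t E E F
  mod : Fintype.card F % 8 = 3 ∨ Fintype.card F % 8 = 5
  big : 11 ≤ Fintype.card F

/-- `q` for `q ≡ 5` and `-q` for `q ≡ 3 (mod 8)`. -/
def signedCard (F : Type v) [Fintype F] : ℤ :=
  if Fintype.card F % 8 = 5 then (Fintype.card F : ℤ) else -(Fintype.card F : ℤ)

end Cfsg.Lib.Ree
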